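import Groth.Agent.PicH1Lib.Cocycle
import Groth.Agent.AmpleThLib.Locus
import Groth.Prelude.Def_MoreMor

/-!
# A line bundle with a section from local functions with unit ratios on the overlaps
-/

set_option autoImplicit false

universe u

open CategoryTheory CategoryTheory.Limits AlgebraicGeometry TopologicalSpace Opposite
open DevissLib AmpleLib AmpleThLib
open TwistLib (genSet)

noncomputable section

namespace AmpleCodimLib

variable {X : Scheme.{u}}

theorem exists_bundle {ι : Type u} (W : ι → X.Opens) (hW : ∀ x : X, ∃ i, x ∈ W i)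
    (A f : ∀ i, Γ(X, W i))
    (hf : ∀ i j, i ≠ j → ∀ (x : X) (hi : x ∈ W i), x ∈ W j → IsUnit (X.presheaf.germ (W i) x hi (f i)))
    (hA : ∀ i j (x : X) (hi : x ∈ W i) (hj : x ∈ W j),
      X.presheaf.germ (W i) x hi (A i) * X.presheaf.germ (W j) x hj (f j) =
        X.presheaf.germ (W j) x hj (A j) * X.presheaf.germ (W i) x hi (f i)) :
    ∃ (M : X.Modules) (hM : PicF.IsInvertible M) (σ : Γ(M, ⊤)),
      genSet hM σ = ⨆ i, X.basicOpen (A i) := by
  classical
  let v : ∀ i (x : X), x ∈ W i → (X.presheaf.stalk x)ˣ := fun i x hx =>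
    if h : IsUnit (X.presheaf.germ (W i) x hx (f i)) then h.unit⁻¹ else 1
  have hv : ∀ i j, i ≠ j → ∀ (x : X) (hi : x ∈ W i), x ∈ W j →
      X.presheaf.germ (W i) x hi (f i) * (v i x hi).1 = 1 := fun i j hne x hi hj => by
    have h := hf i j hne x hi hj
    simp only [v, dif_pos h]
    exact h.mul_val_inv
  have hr : ∀ i j, ∃ a : Γ(X, W i ⊓ W j), ∀ x (hx : x ∈ W i ⊓ W j),
      X.presheaf.germ (W i ⊓ W j) x hx a * (v j x hx.2).1 = (v i x hx.1).1 := by
    intro i j
    rcases eq_or_ne i j with rfl | hne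
    · exact ⟨1, fun x hx => by rw [map_one, one_mul]⟩
    have hu : IsUnit (X.presheaf.map (homOfLE inf_le_left : W i ⊓ W j ⟶ W i).op (f i)) :=
      X.toRingedSpace.isUnit_of_isUnit_germ _ _ fun x hx => by
        change IsUnit (X.presheaf.germ (W i ⊓ W j) x hx _)
        rw [TopCat.Presheaf.germ_res_apply]
        exact hf i j hne x hx.1 hx.2
    refine ⟨X.presheaf.map (homOfLE inf_le_right : W i ⊓ W j ⟶ W j).op (f j) * hu.unit⁻¹.1, fun x hx => ?_⟩
    have h1 := hv i j hne x hx.1 hx.2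
    have h2 := hv j i hne.symm x hx.2 hx.1
    rw [map_mul, TopCat.Presheaf.germ_res_apply]
    have h3 : X.presheaf.germ (W i ⊓ W j) x hx hu.unit⁻¹.1 = (v i x hx.1).1 := by
      refine (hf i j hne x hx.1 hx.2).mul_left_cancel ?_
      rw [h1, ← TopCat.Presheaf.germ_res_apply X.presheaf (homOfLE inf_le_left : W i ⊓ W j ⟶ W i) x hx (f i),
        ← map_mul, hu.mul_val_inv, map_one]
    rw [h3, mul_comm, ← mul_assoc, mul_comm (v j x hx.2).1, h2, one_mul]
  obtain ⟨M, t, ht, hcomp⟩ := PicH1Lib.exists_module_of_units hr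
  have hM : PicF.IsInvertible M := TwistLib.isInvertible_of_genOn W hW t ht
  let s : ∀ i, Γ(M, W i) := fun i => A i • t i
  have hgm : ∀ i j (x : X) (hi : x ∈ W i) (hj : x ∈ W j), gm M x hi (s i) = gm M x hj (s j) := by
    intro i j x hi hj
    rcases eq_or_ne i j with rfl | hne
    · rfl
    have h1 := hv i j hne x hi hj
    have h2 := hv j i hne.symm x hj hi
    have e : gm M x hi (t i) = (X.presheaf.germ (W j) x hj (f j) * (v i x hi).1) • gm M x hj (t j) := by
      rw [mul_smul, ← hcomp i j x hi hj, smul_smul, h2, one_smul]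
    simp only [s, gm_smul, e, smul_smul]
    rw [← mul_assoc, hA i j x hi hj, mul_assoc, h1, mul_one]
  have hcp : TopCat.Presheaf.IsCompatible
      (⟨M.presheaf, M.isSheaf⟩ : TopCat.Sheaf AddCommGrpCat X).obj W s := fun i j =>
    TopCat.Presheaf.section_ext (⟨M.presheaf, M.isSheaf⟩ : TopCat.Sheaf AddCommGrpCat X) _ _ _ fun x hx =>
      (gm_map M inf_le_left x hx (s i)).trans ((hgm i j x hx.1 hx.2).trans (gm_map M inf_le_right x hx (s j)).symm)
  obtain ⟨σ, hσ, -⟩ := TopCat.Sheaf.existsUnique_gluing' (X := X) (⟨M.presheaf, M.isSheaf⟩ : TopCat.Sheaf AddCommGrpCat X) W ⊤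
    (fun i => homOfLE le_top) (fun x _ => Opens.mem_iSup.2 (hW x)) s hcp
  refine ⟨M, hM, σ, Opens.ext (Set.ext fun x => ?_)⟩
  have key : ∀ i (hi : x ∈ W i), GenAt M σ (show x ∈ (⊤ : X.Opens) from trivial) ↔ x ∈ X.basicOpen (A i) := by
    intro i hi
    rw [← genAt_res (le_top : W i ≤ ⊤) σ hi, show AmpleLib.res M le_top σ = s i from hσ i]
    exact genAt_smul_iff (A i) (t i) hi ((ht i).genAt hi)
  obtain ⟨i₀, hi₀⟩ := hW x
  constructor
  · exact fun h => Opens.mem_iSup.2 ⟨i₀, (key i₀ hi₀).1 h⟩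
  · intro h
    obtain ⟨i, hi⟩ := Opens.mem_iSup.1 h
    exact (key i (X.basicOpen_le _ hi)).2 hi

end AmpleCodimLib

end
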