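import Groth.Agent.AmpleCodimLib.Bundle
import Groth.Agent.AmpleFamDivLib.Main

/-!
# An open with an ample family containing a given point and all points of codimension at most one
-/

set_option autoImplicit false

universe u

open CategoryTheory CategoryTheory.Limits AlgebraicGeometry TopologicalSpace Opposite
open AmpleLib AmpleThLib
open TwistLib (genSet)

noncomputable section

namespace AmpleCodimLib

variable {X : Scheme.{u}}

/-- maximal points -/
def IsMin' (η : X) : Prop := ∀ z : X, z ⤳ η → z = η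

theorem mem_basicOpen_iff {W : X.Opens} (hW : IsAffineOpen W) (h : Γ(X, W)) (p : X) (hp : p ∈ W) :
    p ∈ X.basicOpen h ↔ h ∉ (hW.primeIdealOf ⟨p, hp⟩).asIdeal := by
  have e : hW.fromSpec (hW.primeIdealOf ⟨p, hp⟩) = p := hW.fromSpec_primeIdealOf ⟨p, hp⟩
  conv_lhs => rw [← e]
  change hW.primeIdealOf ⟨p, hp⟩ ∈ hW.fromSpec ⁻¹ᵁ X.basicOpen h ↔ _
  rw [hW.fromSpec_preimage_basicOpen]
  rfl

theorem avoid {W : X.Opens} (hW : IsAffineOpen W) {C : Set X} (hC : IsClosed C) {P : Set X} (hP : P.Finite)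
    (hPW : ∀ p ∈ P, p ∈ W) (hPC : ∀ p ∈ P, p ∉ C) :
    ∃ h : Γ(X, W), (∀ p ∈ C, p ∉ X.basicOpen h) ∧ ∀ p ∈ P, p ∈ X.basicOpen h := by
  classical
  have hcl : IsClosed (hW.fromSpec ⁻¹' C) := hC.preimage hW.fromSpec.continuous
  let I := PrimeSpectrum.vanishingIdeal (hW.fromSpec ⁻¹' C)
  have : Fintype P := hP.fintype
  let J : P → Ideal Γ(X, W) := fun p => (hW.primeIdealOf ⟨p.1, hPW _ p.2⟩).asIdeal
  have hnot : ∀ p : P, ¬ I ≤ J p := fun p hle => by
    have h1 : hW.primeIdealOf ⟨p.1, hPW _ p.2⟩ ∈ PrimeSpectrum.zeroLocus (I : Set Γ(X, W)) := hle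
    rw [PrimeSpectrum.zeroLocus_vanishingIdeal_eq_closure] at h1
    replace h1 := hcl.closure_subset h1
    have h2 : hW.fromSpec (hW.primeIdealOf ⟨p.1, hPW _ p.2⟩) ∈ C := h1
    rw [hW.fromSpec_primeIdealOf] at h2
    exact hPC _ p.2 h2
  have hns : ¬ (I : Set Γ(X, W)) ⊆ ⋃ p ∈ ((Finset.univ : Finset P) : Set P), (J p : Set Γ(X, W)) := fun hs => by
    rcases isEmpty_or_nonempty P with hE | ⟨⟨p₀⟩⟩
    · simpa using hs (zero_mem I)
    · obtain ⟨p, -, hp⟩ := (Ideal.subset_union_prime p₀ p₀ (fun p _ _ _ =>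
        (hW.primeIdealOf ⟨p.1, hPW _ p.2⟩).isPrime)).1 hs
      exact hnot p hp
  obtain ⟨h, hI, hh⟩ := Set.not_subset.1 hns
  refine ⟨h, fun p hp hpD => ?_, fun p hp => ?_⟩
  · have hpW := X.basicOpen_le h hpD
    refine (mem_basicOpen_iff hW h p hpW).1 hpD ?_
    refine (PrimeSpectrum.mem_vanishingIdeal _ _).1 hI _ ?_
    change hW.fromSpec _ ∈ C
    rw [hW.fromSpec_primeIdealOf]
    exact hp
  · rw [mem_basicOpen_iff hW h p (hPW p hp)]
    exact fun hm => hh (Set.mem_biUnion (Finset.mem_coe.2 (Finset.mem_univ (⟨p, hp⟩ : P))) hm)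

variable [AlgebraicGeometry.IsNoetherian X]

omit [AlgebraicGeometry.IsNoetherian X] in
theorem exists_min (x : X) : ∃ η : X, IsMin' η ∧ η ⤳ x := by
  obtain ⟨η, hη⟩ := QuasiSober.sober (isIrreducible_irreducibleComponent (x := x)) isClosed_irreducibleComponent
  refine ⟨η, fun z hz => ?_, hη.specializes mem_irreducibleComponent⟩
  have h1 : irreducibleComponent x ⊆ closure {z} := by
    rw [← hη.def]
    exact closure_minimal (Set.singleton_subset_iff.2 hz.mem_closure) isClosed_closure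
  have h2 := (irreducibleComponent_mem_irreducibleComponents x).2 isIrreducible_singleton.closure h1
  exact (hz.antisymm (hη.specializes (h2 (subset_closure rfl)))).eq

theorem finite_min : {η : X | IsMin' η}.Finite := by
  refine (genericPoints.finite (α := X) NoetherianSpace.finite_irreducibleComponents).subset fun η hη => ?_
  refine ⟨isIrreducible_singleton.closure, fun Z hZ hle => ?_⟩
  obtain ⟨z, hz⟩ := QuasiSober.sober hZ.closure isClosed_closure
  have hzη : z ⤳ η := hz.specializes (subset_closure (hle (subset_closure rfl)))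
  intro t ht
  have := hη z hzη
  subst this
  exact hz.def.ge (subset_closure ht)

theorem exists_gen_of_mem_closure (O : X.Opens) {C : Set X} (hC : IsClosed C) {y : X}
    (hy : y ∈ closure ((O : Set X) ∩ C)) : ∃ η ∈ O, η ∈ C ∧ η ⤳ y := by
  obtain ⟨S, hSf, hSc, hSi, rfl⟩ := NoetherianSpace.exists_finite_set_isClosed_irreducible hC
  let S' := {Z ∈ S | ((O : Set X) ∩ Z).Nonempty}
  have hcl : IsClosed (⋃₀ S') := Set.sUnion_eq_biUnion ▸ (hSf.subset (Set.sep_subset S fun Z => ((O : Set X) ∩ Z).Nonempty)).isClosed_biUnion fun Z hZ => hSc Z hZ.1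
  have hsub : (O : Set X) ∩ ⋃₀ S ⊆ ⋃₀ S' := by
    rintro p ⟨hp, Z, hZ, hpZ⟩
    exact ⟨Z, ⟨hZ, p, hp, hpZ⟩, hpZ⟩
  obtain ⟨Z, ⟨hZ, p, hp, hpZ⟩, hyZ⟩ := closure_minimal hsub hcl hy
  obtain ⟨η, hη⟩ := QuasiSober.sober (hSi Z hZ) (hSc Z hZ)
  exact ⟨η, (hη.specializes hpZ).mem_open O.2 hp, ⟨Z, hZ, hη.mem⟩, hη.specializes hyZ⟩

theorem min_mem_of_dense {U : X.Opens} (hU : Dense (U : Set X)) {η : X} (hη : IsMin' η) : η ∈ U := by
  have h1 : η ∈ closure ((U : Set X) ∩ Set.univ) := by rw [Set.inter_univ]; exact hU η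
  obtain ⟨ζ, hζ, -, hs⟩ := exists_gen_of_mem_closure U isClosed_univ h1
  exact hη ζ hs ▸ hζ

omit [AlgebraicGeometry.IsNoetherian X] in
theorem isMin_of_specializes {y η : X} (hy : ringKrullDim (X.presheaf.stalk y) ≤ 1) (h : η ⤳ y)
    (hne : η ≠ y) : IsMin' η := by
  intro z hz
  by_contra hz'
  rw [ringKrullDim_stalk_eq_coheight] at hy
  have hy' : Order.coheight y ≤ 1 := by exact_mod_cast hy
  have h1 : y < η := lt_iff_le_not_ge.2 ⟨h, fun h' => hne (h.antisymm h').eq⟩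
  have h2 : η < z := lt_iff_le_not_ge.2 ⟨hz, fun h' => hz' (hz.antisymm h').eq⟩
  let s : LTSeries X := ((RelSeries.singleton _ y).snoc η h1).snoc z (by simpa using h2)
  have h3 : ((2 : ℕ) : ℕ∞) ≤ Order.coheight y := Order.length_le_coheight (p := s) (le_of_eq (by simp [s]))
  exact absurd (h3.trans hy') (by decide)

/-- An affine open around a codimension one point off `U` cutting `U` in a principal open. -/
theorem exists_good_affine {U : X.Opens} (hU : IsAffineOpen U) (hUd : Dense (U : Set X)) {y : X}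
    (hy : ringKrullDim (X.presheaf.stalk y) ≤ 1) (hyU : y ∉ U) :
    ∃ (U' : X.Opens) (f0 : Γ(X, U)), IsAffineOpen U' ∧ y ∈ U' ∧ (∀ η, IsMin' η → η ∈ U') ∧
      X.basicOpen f0 = U ⊓ U' := by
  classical
  obtain ⟨A, hA, hyA, -⟩ := exists_isAffineOpen_mem_and_subset (x := y) (U := ⊤) trivial
  obtain ⟨W, hW, hAW, hWd⟩ := AmpleFamDivLib.exists_dense_affine hA
  obtain ⟨g, hg1, hg2⟩ := avoid hU W.2.isClosed_compl finite_min (fun p hp => min_mem_of_dense hUd hp)
    (fun p hp => not_not.2 (min_mem_of_dense hWd hp))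
  let D := X.basicOpen g
  have hDW : D ≤ W := fun p hp => by
    by_contra h
    exact hg1 p h hp
  have hyC : ∀ q : X, (q = y ∨ IsMin' q) → q ∉ closure ((U : Set X) ∩ (D : Set X)ᶜ) := by
    intro q hq hqc
    obtain ⟨η, hηU, hηD, hηq⟩ := exists_gen_of_mem_closure U D.2.isClosed_compl hqc
    rcases hq with rfl | hq
    · exact hηD (hg2 η (isMin_of_specializes hy hηq (fun e => hyU (e ▸ hηU))))
    · exact hηD (hq η hηq ▸ hg2 q hq)
  obtain ⟨h, hh1, hh2⟩ := avoid hW isClosed_closure ((finite_min (X := X)).insert y)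
    (fun p hp => by
      rcases hp with rfl | hp
      · exact hAW hyA
      · exact min_mem_of_dense hWd hp)
    (fun p hp => hyC p hp)
  let := hU.isLocalization_basicOpen g
  obtain ⟨⟨a, ⟨_, n, rfl⟩⟩, ha⟩ := IsLocalization.surj (Submonoid.powers g)
    (X.presheaf.map (homOfLE hDW).op h : Γ(X, D))
  refine ⟨X.basicOpen h, a * g, hW.basicOpen h, hh2 y (Or.inl rfl), fun η hη => hh2 η (Or.inr hη), ?_⟩
  have key : ∀ p (hp : p ∈ D),
      X.presheaf.germ W p (hDW hp) h * X.presheaf.germ U p (X.basicOpen_le g hp) g ^ n =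
        X.presheaf.germ U p (X.basicOpen_le g hp) a := by
    intro p hp
    have e := congrArg (X.presheaf.germ D p hp) ha
    simp only [RingHom.algebraMap_toAlgebra, map_mul] at e
    change X.presheaf.germ D p hp (X.presheaf.map (homOfLE hDW).op h) *
      X.presheaf.germ D p hp (X.presheaf.map (homOfLE (X.basicOpen_le g)).op (g ^ n)) =
      X.presheaf.germ D p hp (X.presheaf.map (homOfLE (X.basicOpen_le g)).op a) at e
    simpa only [TopCat.Presheaf.germ_res_apply, map_pow] using e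
  ext p
  change p ∈ X.basicOpen (a * g) ↔ p ∈ U ∧ p ∈ X.basicOpen h
  rw [Scheme.basicOpen_mul]
  constructor
  · rintro ⟨hpa, hpg⟩
    refine ⟨X.basicOpen_le g hpg, ?_⟩
    rw [Scheme.mem_basicOpen _ _ p (hDW hpg)]
    have := (Scheme.mem_basicOpen _ _ p (X.basicOpen_le g hpg)).1 hpa
    rw [← key p hpg] at this
    exact isUnit_of_mul_isUnit_left this
  · rintro ⟨hpU, hph⟩
    have hpg : p ∈ D := by
      by_contra hn
      exact hh1 p (subset_closure ⟨hpU, hn⟩) hph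
    refine ⟨?_, hpg⟩
    show p ∈ X.basicOpen a
    rw [Scheme.mem_basicOpen _ _ p hpU, ← key p hpg]
    exact IsUnit.mul ((Scheme.mem_basicOpen _ _ p (hDW hpg)).1 hph)
      (((Scheme.mem_basicOpen _ _ p hpU).1 hpg).pow n)

/-- An open with an ample family around a point containing all points of codimension at most one. -/
theorem exists_open [X.IsSeparated] (x : X) : ∃ V : X.Opens, x ∈ V ∧
    (∀ y : X, ringKrullDim (X.presheaf.stalk y) ≤ 1 → y ∈ V) ∧ MoreMor.HasAmpleFamily (V : Scheme.{u}) := by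
  classical
  obtain ⟨A₀, hA₀, hxA, -⟩ := exists_isAffineOpen_mem_and_subset (x := x) (U := ⊤) trivial
  obtain ⟨U, hU, hAU, hUd⟩ := AmpleFamDivLib.exists_dense_affine hA₀
  let T : Set X := {y | y ∉ U ∧ ringKrullDim (X.presheaf.stalk y) ≤ 1}
  have hTgen : ∀ y ∈ T, ∀ η : X, η ⤳ y → η ∉ U → η = y := fun y hy η hη hηU => by
    by_contra hne
    exact hηU (min_mem_of_dense hUd (isMin_of_specializes hy.2 hη hne))
  obtain ⟨S, hSf, hSc, hSi, hSe⟩ := NoetherianSpace.exists_finite_set_isClosed_irreducible U.2.isClosed_compl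
  choose ζ hζ using fun Z : S => QuasiSober.sober (hSi Z.1 Z.2) (hSc Z.1 Z.2)
  have hζU : ∀ Z : S, ζ Z ∉ U := fun Z => (hSe ▸ ⟨Z.1, Z.2, (hζ Z).mem⟩ : ζ Z ∈ U.carrierᶜ)
  have : Finite S := hSf.to_subtype
  have hTfin : T.Finite := by
    refine (Set.finite_range ζ).subset fun y hy => ?_
    obtain ⟨Z, hZ, hyZ⟩ : y ∈ ⋃₀ S := hSe ▸ hy.1
    exact ⟨⟨Z, hZ⟩, hTgen y hy _ ((hζ ⟨Z, hZ⟩).specializes hyZ) (hζU _)⟩
  have : Finite T := hTfin.to_subtype
  choose U' f0 hU' hyU' hminU' hf0 using fun y : T => exists_good_affine hU hUd y.2.2 y.2.1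
  have hN : ∀ y : T, ∃ (N : X.Opens) (f : Γ(X, N)), IsAffineOpen N ∧ y.1 ∈ N ∧
      X.basicOpen f = N ⊓ U ∧ (∀ w : T, w ≠ y → ∀ p ∈ N, ¬ w.1 ⤳ p) ∧
      (∀ p ∈ N, p ∉ U → y.1 ⤳ p) ∧
      (∀ z : T, N ⊓ U ≤ U' z) ∧ ∀ z : T, y.1 ∈ U' z → N ≤ U' z := by
    intro y
    obtain ⟨N₀, hN₀, hyN₀, -⟩ := exists_isAffineOpen_mem_and_subset (x := y.1) (U := ⊤) trivial
    obtain ⟨f, hf1, hf2⟩ := avoid hN₀ U.2.isClosed_compl
      ((finite_min (X := X)).inter_of_left (N₀ : Set X)) (fun p hp => hp.2)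
      (fun p hp => not_not.2 (min_mem_of_dense hUd hp.1))
    let C₁ : Set X := ⋃ w ∈ {w : T | w ≠ y}, closure {w.1}
    let C₂ : Set X := ⋃ Z ∈ {Z : S | y.1 ∉ Z.1}, Z.1
    let C₃ : Set X := ⋃ z : T, closure ((U : Set X) ∩ (U' z : Set X)ᶜ)
    let C₄ : Set X := ⋃ z ∈ {z : T | y.1 ∈ U' z}, (U' z : Set X)ᶜ
    let C₅ : Set X := closure ((U : Set X) ∩ (X.basicOpen f : Set X)ᶜ)
    have hclosed : IsClosed (C₁ ∪ C₂ ∪ C₃ ∪ C₄ ∪ C₅) := by
      refine ((((Set.Finite.isClosed_biUnion (Set.toFinite _) fun w _ => isClosed_closure).union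
        (Set.Finite.isClosed_biUnion (Set.toFinite _) fun Z _ => hSc _ Z.2)).union
        (isClosed_iUnion_of_finite fun z => isClosed_closure)).union
        (Set.Finite.isClosed_biUnion (Set.toFinite _) fun z _ => (U' z).2.isClosed_compl)).union isClosed_closure
    have hyC : y.1 ∉ C₁ ∪ C₂ ∪ C₃ ∪ C₄ ∪ C₅ := by
      rintro ((((h | h) | h) | h) | h)
      · obtain ⟨w, hw, hyw⟩ := Set.mem_iUnion₂.1 h
        exact hw (Subtype.ext (hTgen _ y.2 _ (specializes_iff_mem_closure.2 hyw) w.2.1))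
      · obtain ⟨Z, hZ, hyZ⟩ := Set.mem_iUnion₂.1 h
        exact hZ hyZ
      · obtain ⟨z, hz⟩ := Set.mem_iUnion.1 h
        obtain ⟨η, hηU, hη', hηy⟩ := exists_gen_of_mem_closure U (U' z).2.isClosed_compl hz
        exact hη' (hminU' z η (isMin_of_specializes y.2.2 hηy (fun e => y.2.1 (e ▸ hηU))))
      · obtain ⟨z, hz, hyz⟩ := Set.mem_iUnion₂.1 h
        exact hyz hz
      · obtain ⟨η, hηU, hη', hηy⟩ := exists_gen_of_mem_closure U (X.basicOpen f).2.isClosed_compl h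
        exact hη' (hf2 η ⟨isMin_of_specializes y.2.2 hηy (fun e => y.2.1 (e ▸ hηU)), hηy.mem_open N₀.2 hyN₀⟩)
    obtain ⟨s, hs1, hs2⟩ := avoid hN₀ hclosed (Set.finite_singleton y.1) (by simpa using hyN₀) (by simpa using hyC)
    have hle : X.basicOpen s ≤ N₀ := X.basicOpen_le s
    refine ⟨X.basicOpen s, X.presheaf.map (homOfLE hle).op f, hN₀.basicOpen s, hs2 _ rfl, ?_, ?_, ?_, ?_, ?_⟩
    · rw [Scheme.basicOpen_res]
      ext p
      refine ⟨fun hp => ⟨hp.1, ?_⟩, fun hp => ⟨hp.1, ?_⟩⟩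
      · by_contra hn
        exact hf1 p hn hp.2
      · by_contra hn
        exact hs1 p (Or.inr (subset_closure ⟨hp.2, hn⟩)) hp.1
    · intro w hw p hp hwp
      exact hs1 p (Or.inl (Or.inl (Or.inl (Or.inl (Set.mem_biUnion (show w ∈ {w : T | w ≠ y} from hw)
        hwp.mem_closure))))) hp
    · intro p hp hpU
      obtain ⟨Z, hZ, hpZ⟩ : p ∈ ⋃₀ S := hSe ▸ hpU
      by_cases hyZ : y.1 ∈ Z
      · exact hTgen _ y.2 _ ((hζ ⟨Z, hZ⟩).specializes hyZ) (hζU _) ▸ (hζ ⟨Z, hZ⟩).specializes hpZ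
      · exact absurd hp (hs1 p (Or.inl (Or.inl (Or.inl (Or.inr
          (Set.mem_biUnion (show (⟨Z, hZ⟩ : S) ∈ {Z : S | y.1 ∉ Z.1} from hyZ) hpZ))))))
    · intro z p hp
      by_contra hn
      exact hs1 p (Or.inl (Or.inl (Or.inr (Set.mem_iUnion.2 ⟨z, subset_closure ⟨hp.2, hn⟩⟩)))) hp.1
    · intro z hz p hp
      by_contra hn
      exact hs1 p (Or.inl (Or.inr (Set.mem_biUnion (show z ∈ {z : T | y.1 ∈ U' z} from hz) hn))) hp
  choose N fN hNa hyN hfN hNsep hNgen hNU hNle using hN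
  let V : X.Opens := U ⊔ ⨆ y, N y
  have hUV : U ≤ V := le_sup_left
  have hNV : ∀ y, N y ≤ V := fun y => (le_iSup N y).trans le_sup_right
  have hVcov : ∀ p ∈ V, p ∈ U ∨ ∃ y, p ∈ N y := fun p hp => hp.imp id Opens.mem_iSup.1
  refine ⟨V, hUV (hAU hxA), fun y hy => ?_, ?_⟩
  · by_cases hyU : y ∈ U
    · exact hUV hyU
    · exact hNV ⟨y, hyU, hy⟩ (hyN _)
  haveI : CompactSpace ↥(V : Scheme.{u}) := isCompact_iff_compactSpace.1 (NoetherianSpace.isCompact _)
  refine ⟨inferInstance, fun p => ?_⟩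
  -- an affine open through `p` cutting every piece in a principal open
  obtain ⟨G, hG, hpG, hGN, F0, hF0, hGy⟩ : ∃ G : X.Opens, IsAffineOpen G ∧ p.1 ∈ G ∧
      (∀ y, N y ⊓ U ≤ G) ∧ ∃ F0 : Γ(X, U), X.basicOpen F0 = U ⊓ G ∧
      ∀ y, ∃ F : Γ(X, N y), X.basicOpen F = N y ⊓ G := by
    by_cases hpU : p.1 ∈ U
    · exact ⟨U, hU, hpU, fun _ => inf_le_right, 1, (X.basicOpen_of_isUnit isUnit_one).trans (inf_idem U).symm,
        fun y => ⟨fN y, hfN y⟩⟩
    · obtain ⟨z, hpz⟩ := (hVcov p.1 p.2).resolve_left hpU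
      refine ⟨U' z, hU' z, hNle z z (hyU' z) hpz, fun y => hNU y z, f0 z, hf0 z, fun y => ?_⟩
      by_cases hyz : y.1 ∈ U' z
      · exact ⟨1, (X.basicOpen_of_isUnit isUnit_one).trans (inf_eq_left.2 (hNle y z hyz)).symm⟩
      · refine ⟨fN y, (hfN y).trans (le_antisymm (le_inf inf_le_left (hNU y z)) fun q hq => ⟨hq.1, ?_⟩)⟩
        by_contra hqU
        exact hyz ((hNgen y q hq.1 hqU).mem_open (U' z).2 hq.2)
  choose FN hFN using hGy
  obtain ⟨h, hh1, hh2⟩ := avoid hG V.2.isClosed_compl (Set.finite_singleton p.1) (by simpa using hpG)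
    (by simp)
  let W : Option T → X.Opens := fun i => i.elim U N
  let F : ∀ i, Γ(X, W i) := fun i => match i with
    | none => F0
    | some y => FN y
  have hF : ∀ i, X.basicOpen (F i) = W i ⊓ G := fun i => match i with
    | none => hF0
    | some y => hFN y
  have hWa : ∀ i, IsAffineOpen (W i) := fun i => match i with
    | none => hU
    | some y => hNa y
  have hov : ∀ i j, i ≠ j → W i ⊓ W j ≤ G := by
    rintro (_ | y) (_ | z) hne q ⟨hi, hj⟩
    · exact absurd rfl hne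
    · exact hGN z ⟨hj, hi⟩
    · exact hGN y ⟨hi, hj⟩
    · refine hGN y ⟨hi, ?_⟩
      by_contra hqU
      exact hNsep z y (fun e => hne (congrArg some e)) q hj (hNgen y q hi hqU)
  have hext : ∀ i, ∃ (n : ℕ) (a : Γ(X, W i)), ∀ q (hq : q ∈ W i) (hqG : q ∈ G),
      X.presheaf.germ (W i) q hq a = X.presheaf.germ G q hqG h * X.presheaf.germ (W i) q hq (F i) ^ n := by
    intro i
    have hle : X.basicOpen (F i) ≤ G := (hF i).le.trans inf_le_right
    let := (hWa i).isLocalization_basicOpen (F i)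
    obtain ⟨⟨a, ⟨_, n, rfl⟩⟩, ha⟩ := IsLocalization.surj (Submonoid.powers (F i))
      (X.presheaf.map (homOfLE hle).op h : Γ(X, X.basicOpen (F i)))
    refine ⟨n, a, fun q hq hqG => ?_⟩
    have hqF : q ∈ X.basicOpen (F i) := (hF i).ge ⟨hq, hqG⟩
    have e := congrArg (X.presheaf.germ _ q hqF) ha
    simp only [RingHom.algebraMap_toAlgebra, map_mul] at e
    change X.presheaf.germ _ q hqF (X.presheaf.map (homOfLE hle).op h) *
      X.presheaf.germ _ q hqF (X.presheaf.map (homOfLE (X.basicOpen_le (F i))).op (F i ^ n)) =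
      X.presheaf.germ _ q hqF (X.presheaf.map (homOfLE (X.basicOpen_le (F i))).op a) at e
    simpa only [TopCat.Presheaf.germ_res_apply, map_pow] using e.symm
  choose n a ha using hext
  have : Fintype T := Fintype.ofFinite T
  let m : ℕ := Finset.univ.sup n + 1
  have hnm : ∀ i, n i < m := fun i => Nat.lt_succ_of_le (Finset.le_sup (Finset.mem_univ i))
  let A : ∀ i, Γ(X, W i) := fun i => a i * F i ^ (m - n i)
  have hAg : ∀ i q (hq : q ∈ W i) (hqG : q ∈ G), X.presheaf.germ (W i) q hq (A i) =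
      X.presheaf.germ G q hqG h * X.presheaf.germ (W i) q hq (F i) ^ m := by
    intro i q hq hqG
    simp only [A, map_mul, map_pow]
    rw [ha i q hq hqG, mul_assoc, ← pow_add, Nat.add_sub_cancel' (hnm i).le]
  have hFu : ∀ i q (hq : q ∈ W i), q ∈ G → IsUnit (X.presheaf.germ (W i) q hq (F i)) := fun i q hq hqG =>
    (Scheme.mem_basicOpen _ _ q hq).1 ((hF i).ge ⟨hq, hqG⟩)
  have hDA : ∀ i, X.basicOpen (A i) = W i ⊓ X.basicOpen h := by
    intro i
    ext q
    constructor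
    · intro hq
      have hqW := X.basicOpen_le _ hq
      have hu := (Scheme.mem_basicOpen _ _ q hqW).1 hq
      simp only [A, map_mul, map_pow] at hu
      have hqF : q ∈ X.basicOpen (F i) := (Scheme.mem_basicOpen _ _ q hqW).2
        ((isUnit_pow_iff (Nat.sub_ne_zero_of_lt (hnm i))).1 (isUnit_of_mul_isUnit_right hu))
      have hqG : q ∈ G := ((hF i).le hqF).2
      refine ⟨hqW, (Scheme.mem_basicOpen _ _ q hqG).2 ?_⟩
      have hu' := (Scheme.mem_basicOpen _ _ q hqW).1 hq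
      rw [hAg i q hqW hqG] at hu'
      exact isUnit_of_mul_isUnit_left hu'
    · rintro ⟨hqW, hqh⟩
      have hqG := X.basicOpen_le _ hqh
      show q ∈ X.basicOpen (A i)
      rw [Scheme.mem_basicOpen _ _ q hqW, hAg i q hqW hqG]
      exact ((Scheme.mem_basicOpen _ _ q hqG).1 hqh).mul ((hFu i q hqW hqG).pow m)
  obtain ⟨L, hL, σ, hσ⟩ := exists_bundle (X := (V : Scheme.{u})) (fun i => V.ι ⁻¹ᵁ W i)
    (fun q => (hVcov q.1 q.2).elim (fun h => ⟨none, h⟩) (fun ⟨y, h⟩ => ⟨some y, h⟩))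
    (fun i => V.ι.app (W i) (A i)) (fun i => V.ι.app (W i) (F i ^ m))
    (fun i j hne q hi hj => by
      rw [← Scheme.Hom.germ_stalkMap_apply V.ι (W i) q hi]
      refine IsUnit.map _ ?_
      rw [map_pow]
      exact (hFu i _ hi (hov i j hne ⟨hi, hj⟩)).pow m)
    (fun i j q hi hj => by
      rw [← Scheme.Hom.germ_stalkMap_apply V.ι (W i) q hi, ← Scheme.Hom.germ_stalkMap_apply V.ι (W i) q hi,
        ← Scheme.Hom.germ_stalkMap_apply V.ι (W j) q hj, ← Scheme.Hom.germ_stalkMap_apply V.ι (W j) q hj,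
        ← map_mul, ← map_mul]
      refine congrArg _ ?_
      rcases eq_or_ne i j with rfl | hne
      · rfl
      have hqG : V.ι q ∈ G := hov i j hne ⟨hi, hj⟩
      rw [hAg i _ hi hqG, hAg j _ hj hqG, map_pow, map_pow]
      ring)
  have hgen : genSet hL σ = V.ι ⁻¹ᵁ X.basicOpen h := by
    rw [hσ]
    ext q
    simp only [SetLike.mem_coe, Opens.mem_iSup]
    constructor
    · rintro ⟨i, hi⟩
      rw [← Scheme.preimage_basicOpen, hDA i] at hi
      exact hi.2
    · intro hq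
      obtain ⟨i, hi⟩ : ∃ i, V.ι q ∈ W i :=
        (hVcov q.1 q.2).elim (fun h => ⟨none, h⟩) (fun ⟨y, h⟩ => ⟨some y, h⟩)
      refine ⟨i, ?_⟩
      rw [← Scheme.preimage_basicOpen, hDA i]
      exact ⟨hi, hq⟩
  refine ⟨L, 1, QCohLib.unitHom _ (pS σ 1), hL, le_rfl, ?_, ?_⟩ <;>
    rw [genLocus_unitHom (tensorPow_isInvertible hL 1), genSet_pS hL σ one_pos, hgen]
  · exact hh2 p.1 rfl
  · refine (hG.basicOpen h).preimage_of_isOpenImmersion V.ι ?_
    rw [Scheme.Opens.opensRange_ι]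
    intro q hq
    by_contra hn
    exact hh1 q hn hq

end AmpleCodimLib

end
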